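import Mathlib
import Cfsg.Agent.BpLieP.Untw_m3
import Cfsg.Agent.Lib.Cores
import Cfsg.Agent.S4613
import Cfsg.Agent.H508.KB.Defs
import Cfsg.Agent.H504.TwoExt
import Cfsg.Agent.H761.LieExt
import Cfsg.Agent.H947.PQ.Own_m3
import Cfsg.Agent.H674.Codegree
import Cfsg.Agent.H716.SplitAb
import Cfsg.Agent.H681.DegBasic
import Cfsg.Agent.H729.CharTwoBlock
import Cfsg.Agent.H400.LieLocal
import Cfsg.Agent.OddHalf.Known
import Cfsg.Agent.S0856
import Cfsg.Agent.FastGrp
import Cfsg.Agent.Prune
set_option linter.all false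

section
prune_inst 0x7f00000000000000000000000000000000000000000000000000000000000000000000000000000000000000000000000000000000000000000000000000000000000000000000000000000000000000003fffffffffffffffffffffffffffbeffbdffffffff

-- part: H292/KB/Count
section
set_option linter.all false
open scoped Cfsg.Agent.FastGrp

-- part: H292/KB/Loc
section
/-!
# Radical `p`-subgroups of almost simple groups with socle of Lie type of characteristic `p` (helper292, S4822, W5)

`T` a normal subgroup of `A` of index prime to `p`, simple of Lie type of characteristic `p` and local characteristic `p`,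
`C_A(T) = 1`: the centralizer of a nontrivial radical `p`-subgroup of `A` is a `p`-group (`cent_isPGroup`).
-/

set_option autoImplicit false
set_option linter.unusedSectionVars false

namespace Cfsg.Agent.H292.KB.Loc

open Cfsg Subgroup
open Cfsg.Agent.BpLieP.Big (LocChar)
open Cfsg.Agent.Lib

universe u

variable {A : Type u} [Group A] [Finite A] {p : ℕ} [hp : Fact p.Prime] {T : Subgroup A} [hTn : T.Normal]

/-- `p`-subgroups lie in the normal subgroups of index prime to `p` -/
theorem le_of_isPGroup (hcop : ¬ p ∣ T.index) {D : Subgroup A} (hD : IsPGroup p D) : D ≤ T := by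
  intro x hx
  obtain ⟨k, hk⟩ := hD ⟨x, hx⟩
  have hk' : x ^ p ^ k = 1 := congrArg Subtype.val hk
  have h1 : (QuotientGroup.mk x : A ⧸ T) ^ p ^ k = 1 := by
    rw [← QuotientGroup.mk_pow, hk', QuotientGroup.mk_one]
  have h2 : (QuotientGroup.mk x : A ⧸ T) ^ T.index = 1 := by
    rw [Subgroup.index]
    exact pow_card_eq_one'
  have h3 : (p ^ k).Coprime T.index := Nat.Coprime.pow_left _ ((Nat.Prime.coprime_iff_not_dvd hp.out).2 hcop)
  have h4 : orderOf (QuotientGroup.mk x : A ⧸ T) ∣ 1 := by
    rw [← h3]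
    exact Nat.dvd_gcd (orderOf_dvd_of_pow_eq_one h1) (orderOf_dvd_of_pow_eq_one h2)
  rw [Nat.dvd_one, orderOf_eq_one_iff, QuotientGroup.eq_one_iff] at h4
  exact h4

/-- **The centralizer in `T` of a radical `p`-subgroup.** -/
theorem centralizer_inf_le (hloc : LocChar p T) (hcop : ¬ p ∣ T.index) {D : Subgroup A} (hDp : IsPGroup p D)
    (hD1 : D ≠ ⊥) (hrad : (pCore p (normalizer (D : Set A))).map (normalizer (D : Set A)).subtype = D) {t : A}
    (htT : t ∈ T) (htc : ∀ x ∈ D, t * x = x * t) : t ∈ D := by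
  have hDT : D ≤ T := le_of_isPGroup hcop hDp
  obtain ⟨D', hD'⟩ : ∃ D' : Subgroup T, D' = D.subgroupOf T := ⟨_, rfl⟩
  have hD'mem : ∀ x : T, x ∈ D' ↔ (x : A) ∈ D := fun x => by rw [hD', mem_subgroupOf]
  have hD'p : IsPGroup p D' := by
    rw [hD']
    exact hDp.of_equiv (subgroupOfEquivOfLe hDT).symm
  have hD'1 : D' ≠ ⊥ := by
    intro h
    apply hD1
    rw [eq_bot_iff]
    intro x hx
    have h1 : (⟨x, hDT hx⟩ : T) ∈ D' := (hD'mem _).2 hx
    rw [h, mem_bot] at h1
    rw [mem_bot]
    exact congrArg Subtype.val h1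
  have hchar := hloc D' hD'p hD'1
  obtain ⟨N', hN'⟩ : ∃ N' : Subgroup T, N' = normalizer (D' : Set T) := ⟨_, rfl⟩
  rw [← hN'] at hchar
  have hcharac : (pCore p N').Characteristic := Cores.pCore_characteristic p
  -- the image of `O_p(N_T(D))`
  obtain ⟨Q, hQ⟩ : ∃ Q : Subgroup A, Q = ((pCore p N').map N'.subtype).map T.subtype := ⟨_, rfl⟩
  have hQp : IsPGroup p Q := by
    rw [hQ]
    exact ((Cores.pCore_isPGroup p).map _).map _
  have hQmem : ∀ x : A, x ∈ Q ↔ ∃ (hxT : x ∈ T) (hxN : (⟨x, hxT⟩ : T) ∈ N'), (⟨⟨x, hxT⟩, hxN⟩ : N') ∈ pCore p N' := by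
    intro x
    rw [hQ]
    constructor
    · rintro ⟨_, ⟨y, hy, rfl⟩, rfl⟩
      exact ⟨y.1.2, y.2, hy⟩
    · rintro ⟨h1, h2, h3⟩
      exact ⟨_, ⟨_, h3, rfl⟩, rfl⟩
  -- elements of `N_A(D)` normalise `Q`
  have hnorm : ∀ n ∈ normalizer (D : Set A), ∀ x ∈ Q, n * x * n⁻¹ ∈ Q := by
    intro n hn x hx
    obtain ⟨hxT, hxN, hxp⟩ := (hQmem x).1 hx
    let α : T ≃* T := MulAut.conjNormal n
    have hα : ∀ y : T, ((α y : T) : A) = n * y * n⁻¹ := fun y => MulAut.conjNormal_apply n y
    have hαD : ∀ y : T, y ∈ D' ↔ α y ∈ D' := by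
      intro y
      rw [hD'mem, hD'mem, hα]
      exact mem_normalizer_iff.1 hn y
    have hαN : ∀ y : T, y ∈ N' → α y ∈ N' := by
      intro y hy
      rw [hN', mem_normalizer_iff] at hy ⊢
      intro z
      obtain ⟨w, rfl⟩ := α.surjective z
      rw [← hαD, hy w, hαD, map_mul, map_mul, map_inv]
    have hmap : N'.map α.toMonoidHom = N' := by
      refine Subgroup.eq_of_le_of_card_ge ?_ (Nat.card_congr (N'.equivMapOfInjective _ α.injective).toEquiv).le
      rintro _ ⟨y, hy, rfl⟩
      exact hαN y hy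
    let β : N' ≃* N' := (α.subgroupMap N').trans (MulEquiv.subgroupCongr hmap)
    have hβ : ∀ y : N', ((β y : N') : T) = α y := fun y => rfl
    have h1 : (pCore p N').map β.toMonoidHom = pCore p N' := Subgroup.characteristic_iff_map_eq.1 hcharac β
    have h2 : β ⟨⟨x, hxT⟩, hxN⟩ ∈ pCore p N' := by
      rw [← h1]
      exact ⟨_, hxp, rfl⟩
    rw [hQmem]
    have e : n * x * n⁻¹ = ((β ⟨⟨x, hxT⟩, hxN⟩ : N') : T) := by rw [hβ, hα]
    rw [e]
    exact ⟨(β ⟨⟨x, hxT⟩, hxN⟩ : N').1.2, (β ⟨⟨x, hxT⟩, hxN⟩ : N').2, h2⟩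
  have hQN : Q ≤ normalizer (D : Set A) := by
    intro x hx
    obtain ⟨hxT, hxN, -⟩ := (hQmem x).1 hx
    rw [hN', mem_normalizer_iff] at hxN
    rw [mem_normalizer_iff]
    intro z
    constructor
    · intro hz
      have := (hxN ⟨z, hDT hz⟩).1 ((hD'mem _).2 hz)
      exact (hD'mem _).1 this
    · intro hz
      have hzT : z ∈ T := by
        have h5 : z = x⁻¹ * (x * z * x⁻¹) * x := by group
        rw [h5]
        exact mul_mem (mul_mem (inv_mem hxT) (hDT hz)) hxT
      have := (hxN ⟨z, hzT⟩).2 ((hD'mem _).2 hz)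
      exact (hD'mem _).1 this
  have hQD : Q ≤ D := by
    have h1 : (Q.subgroupOf (normalizer (D : Set A))).Normal := by
      refine ⟨fun x hx g => ?_⟩
      rw [mem_subgroupOf] at hx ⊢
      exact hnorm g g.2 x hx
    have h2 : IsPGroup p (Q.subgroupOf (normalizer (D : Set A))) :=
      hQp.of_equiv (subgroupOfEquivOfLe hQN).symm
    have h3 := Cores.le_pCore h1 h2
    intro x hx
    rw [← hrad]
    exact ⟨⟨x, hQN hx⟩, h3 hx, rfl⟩
  -- `t` centralises `O_p(N_T(D))`
  have htN : (⟨t, htT⟩ : T) ∈ N' := by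
    rw [hN', mem_normalizer_iff]
    intro z
    rw [hD'mem, hD'mem]
    constructor
    · intro hz
      have : ((⟨t, htT⟩ * z * ⟨t, htT⟩⁻¹ : T) : A) = z := by
        show t * (z : A) * t⁻¹ = z
        rw [htc _ hz, mul_inv_cancel_right]
      rw [this]; exact hz
    · intro hz
      have hz' : t * (z : A) * t⁻¹ ∈ D := hz
      have h5 := htc _ hz'
      have h6 : (z : A) = t * z * t⁻¹ := by
        have h7 : t * (t * (z : A) * t⁻¹) * t⁻¹ = t * z * t⁻¹ := by
          rw [h5]; group
        have h8 : t * (z : A) * t⁻¹ = z := by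
          have h9 := congrArg (fun w => t⁻¹ * w * t) h7
          simpa [mul_assoc] using h9
        exact h8.symm
      rw [h6]; exact hz'
  have h1 : (⟨⟨t, htT⟩, htN⟩ : N') ∈ pCore p N' := by
    apply hchar
    rw [mem_centralizer_iff]
    intro y hy
    apply Subtype.ext
    apply Subtype.ext
    show ((y : T) : A) * t = t * ((y : T) : A)
    exact (htc _ (hQD ((hQmem _).2 ⟨(y : T).2, y.2, hy⟩))).symm
  exact hQD ((hQmem _).2 ⟨htT, htN, h1⟩)

/-- `y` centralises the normaliser in `T` of every `p`-subgroup between `D` and its centralizer -/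
theorem comm_normalizer {D : Subgroup A} (hDp : IsPGroup p D)
    (hDc : ∀ t ∈ T, (∀ x ∈ D, t * x = x * t) → t ∈ D) {y : A} {r : ℕ} (hr : r.Coprime p) (hy : y ^ r = 1)
    {R : Subgroup A} (hDR : D ≤ R) (hyR : ∀ x ∈ R, y * x = x * y) {g : A} (hgT : g ∈ T)
    (hg : g ∈ normalizer (R : Set A)) : y * g = g * y := by
  obtain ⟨c, hc⟩ : ∃ c, c = y * g * y⁻¹ * g⁻¹ := ⟨_, rfl⟩
  have hcT : c ∈ T := by
    rw [hc]
    exact mul_mem (hTn.conj_mem g hgT y) (inv_mem hgT)
  have hcD : c ∈ D := by
    refine hDc c hcT fun x hx => ?_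
    have hxR := hDR hx
    have h1 : g⁻¹ * x * g ∈ R := by
      have := (mem_normalizer_iff.1 (inv_mem hg) x).1 hxR
      rwa [inv_inv] at this
    have h2 := hyR _ h1
    have h3 := hyR _ hxR
    have e1 : c * x = y * g * y⁻¹ * (g⁻¹ * x * g) * g⁻¹ := by rw [hc]; group
    have e2 : y⁻¹ * (g⁻¹ * x * g) = (g⁻¹ * x * g) * y⁻¹ := by
      rw [inv_mul_eq_iff_eq_mul, ← mul_assoc, h2, mul_inv_cancel_right]
    calc c * x = y * g * (y⁻¹ * (g⁻¹ * x * g)) * g⁻¹ := by rw [e1]; group
      _ = y * x * (g * y⁻¹ * g⁻¹) := by rw [e2]; group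
      _ = x * y * (g * y⁻¹ * g⁻¹) := by rw [h3]
      _ = x * c := by rw [hc]; group
  have hyc : y * c = c * y := hyR c (hDR hcD)
  have hpow : ∀ k : ℕ, y ^ k * g * (y ^ k)⁻¹ = c ^ k * g := by
    intro k
    induction k with
    | zero => simp
    | succ k ih =>
      have hck : y * c ^ k = c ^ k * y := (Commute.pow_right hyc k)
      calc y ^ (k + 1) * g * (y ^ (k + 1))⁻¹ = y * (y ^ k * g * (y ^ k)⁻¹) * y⁻¹ := by rw [pow_succ']; group
        _ = y * c ^ k * g * y⁻¹ := by rw [ih]; group
        _ = c ^ k * (y * g * y⁻¹ * g⁻¹) * g := by rw [hck]; group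
        _ = c ^ (k + 1) * g := by rw [← hc, pow_succ]
  have hcr : c ^ r = 1 := by
    have h1 := hpow r
    rw [hy, one_mul, inv_one, mul_one] at h1
    exact (right_eq_mul.1 h1)
  have hc1 : c = 1 := by
    obtain ⟨k, hk⟩ := hDp ⟨c, hcD⟩
    have hk' : c ^ p ^ k = 1 := congrArg Subtype.val hk
    have h3 : r.Coprime (p ^ k) := Nat.Coprime.pow_right _ hr
    have h4 : orderOf c ∣ 1 := by
      rw [← h3]
      exact Nat.dvd_gcd (orderOf_dvd_of_pow_eq_one hcr) (orderOf_dvd_of_pow_eq_one hk')
    rwa [Nat.dvd_one, orderOf_eq_one_iff] at h4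
  rw [hc1] at hc
  have h5 : y * g * y⁻¹ = g := by
    have := hc.symm
    rwa [mul_inv_eq_one] at this
  rwa [mul_inv_eq_iff_eq_mul] at h5

/-- **The centralizer of a radical `p`-subgroup.** -/
theorem cent_isPGroup [IsSimpleGroup T] (hL : IsLieTypeChar p T) (hloc : LocChar p T)
    (hcen : centralizer (T : Set A) = ⊥) (hcop : ¬ p ∣ T.index) {D : Subgroup A} (hDp : IsPGroup p D)
    (hD1 : D ≠ ⊥) (hrad : (pCore p (normalizer (D : Set A))).map (normalizer (D : Set A)).subtype = D) :
    IsPGroup p (centralizer (D : Set A)) := by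
  classical
  have hDc : ∀ t ∈ T, (∀ x ∈ D, t * x = x * t) → t ∈ D := fun t ht h =>
    centralizer_inf_le hloc hcop hDp hD1 hrad ht h
  by_contra hC
  obtain ⟨r, hr, hrp, hrd⟩ : ∃ r : ℕ, r.Prime ∧ r ≠ p ∧ r ∣ Nat.card (centralizer (D : Set A)) := by
    by_contra hcon
    push Not at hcon
    apply hC
    rw [IsPGroup.iff_card]
    refine ⟨_, Nat.eq_prime_pow_of_unique_prime_dvd Nat.card_pos.ne' fun {r} hr hrd => ?_⟩
    by_contra hne
    exact hcon r hr hne hrd
  have : Fact r.Prime := ⟨hr⟩
  obtain ⟨y', hy'⟩ := exists_prime_orderOf_dvd_card' r hrd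
  obtain ⟨y, hyd⟩ : ∃ y : A, y = y' := ⟨_, rfl⟩
  have hyo : orderOf y = r := by rw [hyd, orderOf_coe, hy']
  have hyr : y ^ r = 1 := by rw [← hyo]; exact pow_orderOf_eq_one y
  have hrc : r.Coprime p := (Nat.coprime_primes hr hp.out).2 hrp
  have hyD : ∀ x ∈ D, y * x = x * y := by
    intro x hx
    rw [hyd]
    exact ((mem_centralizer_iff.1 y'.2) x hx).symm
  -- a maximal `p`-subgroup centralised by `y`
  let 𝓕 : Set (Subgroup A) := {R | IsPGroup p R ∧ D ≤ R ∧ ∀ x ∈ R, y * x = x * y}
  obtain ⟨R, hR⟩ := (Set.toFinite 𝓕).exists_maximal ⟨D, hDp, le_rfl, hyD⟩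
  obtain ⟨hRp, hDR, hyR⟩ := hR.1
  obtain ⟨U, hU⟩ := hRp.exists_le_sylow
  have hUT : (U : Subgroup A) ≤ T := le_of_isPGroup hcop U.isPGroup'
  have hRU : R = (U : Subgroup A) := by
    by_contra hne
    have hlt : R < (U : Subgroup A) := lt_of_le_of_ne hU hne
    have hnil : Group.IsNilpotent U := U.isPGroup'.isNilpotent
    have hlt' : R.subgroupOf (U : Subgroup A) < ⊤ := by
      rw [lt_top_iff_ne_top, Ne, Subgroup.subgroupOf_eq_top]
      exact hlt.not_ge
    have h1 := Group.normalizerCondition_of_isNilpotent (G := U) _ hlt'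
    obtain ⟨w, hw, hwR⟩ := SetLike.exists_of_lt h1
    have hwn : (w : A) ∈ Subgroup.normalizer (R : Set A) := by
      rw [mem_normalizer_iff] at hw ⊢
      intro x
      constructor
      · intro hx
        have := (hw ⟨x, hU hx⟩).1 (by rw [Subgroup.mem_subgroupOf]; exact hx)
        rw [Subgroup.mem_subgroupOf] at this
        exact this
      · intro hx
        have hxT : x ∈ (U : Subgroup A) := by
          have h2 : x = (w : A)⁻¹ * (w * x * (w : A)⁻¹) * w := by group
          rw [h2]
          exact mul_mem (mul_mem (inv_mem w.2) (hU hx)) w.2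
        have := (hw ⟨x, hxT⟩).2 (by rw [Subgroup.mem_subgroupOf]; exact hx)
        rw [Subgroup.mem_subgroupOf] at this
        exact this
    have hwy := comm_normalizer hDp hDc hrc hyr hDR hyR (hUT w.2) hwn
    have hle : Subgroup.zpowers (w : A) ⊔ R ≤ (U : Subgroup A) :=
      sup_le (by rw [Subgroup.zpowers_le]; exact w.2) hU
    have h3 : Subgroup.zpowers (w : A) ⊔ R ∈ 𝓕 := by
      refine ⟨U.isPGroup'.to_le hle, hDR.trans le_sup_right, ?_⟩
      have h4 : Subgroup.zpowers (w : A) ⊔ R ≤ centralizer ({y} : Set A) := by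
        refine sup_le ?_ fun x hx => ?_
        · rw [Subgroup.zpowers_le, mem_centralizer_singleton_iff]
          exact hwy.symm
        · rw [mem_centralizer_singleton_iff]
          exact (hyR x hx).symm
      intro x hx
      exact (mem_centralizer_singleton_iff.1 (h4 hx)).symm
    have h5 := hR.2 h3 le_sup_right
    exact hwR (by
      rw [Subgroup.mem_subgroupOf]
      exact h5 ((le_sup_left : Subgroup.zpowers (w : A) ≤ _) (mem_zpowers _)))
  -- a Sylow subgroup of `T`
  obtain ⟨P⟩ : Nonempty (Sylow p T) := inferInstance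
  have hPU : ∃ P : Sylow p T, ∀ x ∈ (P : Subgroup T), (x : A) ∈ (U : Subgroup A) := by
    refine ⟨U.subtype hUT, fun x hx => ?_⟩
    exact hx
  obtain ⟨P, hP⟩ := hPU
  have h6 : MulAut.conjNormal (H := T) y = 1 := by
    refine S4613.result p hL (MulAut.conjNormal y) (fun h => ?_) P fun x hx => ?_
    · have h7 : orderOf (MulAut.conjNormal (H := T) y) ∣ r := by
        rw [← hyo]
        exact orderOf_map_dvd _ y
      have h8 := h.trans h7
      exact hrp ((Nat.prime_dvd_prime_iff_eq hp.out hr).1 h8).symm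
    · apply Subtype.ext
      rw [MulAut.conjNormal_apply, hyR _ (hRU ▸ hP x hx), mul_inv_cancel_right]
  have h7 : y ∈ centralizer (T : Set A) := by
    rw [mem_centralizer_iff]
    intro x hx
    have h8 : ((MulAut.conjNormal (H := T) y ⟨x, hx⟩ : T) : A) = x := by
      rw [h6]; rfl
    rw [MulAut.conjNormal_apply, mul_inv_eq_iff_eq_mul] at h8
    exact h8.symm
  rw [hcen, mem_bot] at h7
  rw [h7, orderOf_one] at hyo
  exact hr.one_lt.ne hyo

end Cfsg.Agent.H292.KB.Loc
end

-- part: H292/KB/Count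
section
/-!
# The characters outside the principal block of an almost simple group in own characteristic (helper292, S4822, W5)

`T` normal in `A` of index prime to `p`, simple of Lie type of characteristic `p`, `C_A(T) = 1`, `p` odd:

* `dz_of_not_mem` : the irreducible characters of `A` outside the principal block have degree divisible by `|A|_p`;
* `card_compl_le` : there are at most `ker M T` of them (they lie over the Steinberg character of `T`, Gallagher).
-/

set_option autoImplicit false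
set_option linter.unusedSectionVars false

namespace Cfsg.Agent.H292.KB.Count

open Cfsg Subgroup
open Cfsg.Agent.BpLieP.Big (LocChar)
open Cfsg.Agent.Blocks.Basic
open Cfsg.Agent.Characters.Core Cfsg.Agent.Characters.Clifford
open Cfsg.Agent.H508.KB (ker kB kap)

universe u

variable {A : Type u} [Group A] [Finite A] {p : ℕ} [hp : Fact p.Prime] {M : Ideal AlgInt} {T : Subgroup A}
  [hTn : T.Normal]

/-- the irreducible characters outside the principal block have defect zero -/
theorem dz_of_not_mem [IsSimpleGroup T] (hM : IsPModular p M) (hL : IsLieTypeChar p T) (hloc : LocChar p T)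
    (hcen : centralizer (T : Set A) = ⊥) (hcop : ¬ p ∣ T.index) {χ : IrrCharacter A} (hχ : χ ∉ principalBlock M A) :
    p ^ (Nat.card A).factorization p ∣ charDegree (χ : A → ℂ) := by
  have : M.IsPrime := hM.2.1.isPrime
  have hB : IsPBlock M (blockOf M (χ : A → ℂ)) := isPBlock_blockOf χ
  obtain ⟨D, hD⟩ := H729.CharTwoBlock.exists_isDefectGroup hM hB
  have hDp : IsPGroup p D := H729.CharTwoBlock.isPGroup_of_isDefectGroup hD
  by_cases hD1 : D = ⊥
  · subst hD1
    exact H729.CharTwoBlock.card_dvd_of_defect_bot hM hB hD (mem_blockOf_self χ)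
  · exfalso
    have h2 := S0955.result p M hM _ hB D hD
    have h3 := Loc.cent_isPGroup hL hloc hcen hcop hDp hD1 h2
    have h6 := H729.CharTwoBlock.eq_principal_of_centralizer hM hB hD h3
    apply hχ
    rw [← h6]
    exact mem_blockOf_self χ

theorem card_factorization (hcop : ¬ p ∣ T.index) : (Nat.card A).factorization p = (Nat.card T).factorization p := by
  rw [← Subgroup.card_mul_index T, Nat.factorization_mul Nat.card_pos.ne' Subgroup.index_ne_zero_of_finite,
    Finsupp.add_apply, Nat.factorization_eq_zero_of_not_dvd hcop, add_zero]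

/-- uniqueness of the character of defect zero -/
theorem unique_dz [IsSimpleGroup T] (hL : IsLieTypeChar p T) (χ χ' : IrrCharacter T)
    (h1 : p ^ (Nat.card T).factorization p ∣ charDegree (χ : T → ℂ))
    (h2 : p ^ (Nat.card T).factorization p ∣ charDegree (χ' : T → ℂ)) : χ = χ' := by
  have key : ∀ ψ : IrrCharacter T, p ^ (Nat.card T).factorization p ∣ charDegree (ψ : T → ℂ) →
      ¬ p ∣ Nat.card T / charDegree (ψ : T → ℂ) := by
    intro ψ hψ
    obtain ⟨c, hc⟩ : charDegree (ψ : T → ℂ) ∣ Nat.card T := H674.Codegree.charDegree_dvd_card ψ.2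
    have hd0 : charDegree (ψ : T → ℂ) ≠ 0 := (charDegree_pos ψ.2).ne'
    rw [hc, Nat.mul_div_cancel_left _ (Nat.pos_of_ne_zero hd0)]
    intro hpc
    have h1 : p ^ ((Nat.card T).factorization p + 1) ∣ Nat.card T := by
      rw [pow_succ]
      conv_rhs => rw [hc]
      exact mul_dvd_mul hψ hpc
    exact Nat.pow_succ_factorization_not_dvd Nat.card_pos.ne' hp.out h1
  have hS := H716.SplitAb.hasSplitAb_of_lie hp.out hL
  exact H330.GowOne.unique_of_hasSplitAb hS (H330.Gow.perfect_of_split (H330.Gow.hasSplit_of_ab hS)) χ χ'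
    (key χ h1) (key χ' h2)

/-- the irreducible characters outside the principal block lie over the character of defect zero -/
theorem over_of_dz [IsSimpleGroup T] [Fintype T] [Fintype A] (hL : IsLieTypeChar p T) (hcop : ¬ p ∣ T.index)
    {θ : IrrCharacter T} (hθ : charDegree (θ : T → ℂ) = p ^ (Nat.card T).factorization p) {χ : IrrCharacter A}
    (hχ : p ^ (Nat.card A).factorization p ∣ charDegree (χ : A → ℂ)) :
    classInner (fun x : T => (χ : A → ℂ) x) (θ : T → ℂ) ≠ 0 := by
  obtain ⟨ψ, d, hψ, hd, hne, h1, h2⟩ := H681.DegBasic.exists_constituent T χ.2 (irr_one_eq_charDegree χ.2)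
  have hdeg : charDegree ψ = d := charDegree_of_eq hd
  have h3 : p ^ (Nat.card T).factorization p ∣ charDegree ψ := by
    rw [hdeg]
    rw [card_factorization hcop] at hχ
    obtain ⟨k, hk⟩ := h1
    have hd0 : 0 < d := by rw [← hdeg]; exact charDegree_pos hψ
    rw [hk, Nat.mul_div_cancel_left _ hd0] at h2
    have h4 : ¬ p ∣ k := fun h => hcop (h.trans h2)
    rw [hk] at hχ
    exact (Nat.Coprime.pow_left _ ((Nat.Prime.coprime_iff_not_dvd hp.out).2 h4)).dvd_of_dvd_mul_right hχ
  have h5 : (⟨ψ, hψ⟩ : IrrCharacter T) = θ := unique_dz hL _ _ h3 (by rw [hθ])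
  rw [← h5]
  exact hne

/-- a character over the trivial character of `T` -/
theorem ker_of_over [Fintype T] [Fintype A] {β : A → ℂ} (hβ : IsIrrCharacter A β)
    (h : classInner (indFun T (fun _ => 1 : T → ℂ)) β ≠ 0) : ∀ s ∈ T, β s = β 1 := by
  rw [CharactersDeep.NormalInd.classInner_indFun T _ _ (isIrr_isClassFunction hβ)] at h
  have h' : classInner (fun n : T => β n) (fun _ => 1 : T → ℂ) ≠ 0 := by
    intro h0
    apply h
    rw [← classInner_conj_symm, h0, map_zero]
  have h1 := CharDeep.CliffordCorr.restrict_eq_smul_of_invariant T hβ (χ := fun _ => 1) isIrr_one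
    (fun g => rfl) h'
  intro s hs
  have h2 := congrFun h1 ⟨s, hs⟩
  have h3 := congrFun h1 1
  simp only [Pi.smul_apply, smul_eq_mul, mul_one] at h2 h3
  rw [h2, ← h3]
  rfl

/-- a character with `T` in the kernel is in the principal block -/
theorem mem_of_ker [IsSimpleGroup T] (hM : IsPModular p M) (hL : IsLieTypeChar p T) (hloc : LocChar p T)
    (hcen : centralizer (T : Set A) = ⊥) (hcop : ¬ p ∣ T.index) {β : IrrCharacter A}
    (hβ : ∀ s ∈ T, (β : A → ℂ) s = (β : A → ℂ) 1) : β ∈ principalBlock M A := by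
  classical
  have := Fintype.ofFinite A
  have := Fintype.ofFinite T
  by_contra hcon
  have h1 := dz_of_not_mem hM hL hloc hcen hcop hcon
  obtain ⟨ψ, d, hψ, hd, hne, h2, h3⟩ := H681.DegBasic.exists_constituent T β.2 (irr_one_eq_charDegree β.2)
  -- the constituent is trivial
  have h4 : (fun x : T => (β : A → ℂ) x) = ((β : A → ℂ) 1) • (fun _ => 1 : T → ℂ) := by
    funext x
    simp [hβ x x.2]
  have h5 : ψ = fun _ => 1 := by
    by_contra hne'
    apply hne
    have h6 : classInner (fun _ => 1 : T → ℂ) ψ = 0 := classInner_irr_ne isIrr_one hψ (Ne.symm hne')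
    rw [h4, classInner_smul_left, h6, mul_zero]
  have h6 : d = 1 := by
    rw [h5] at hd
    have hd' : (1 : ℂ) = d := hd
    exact_mod_cast hd'.symm
  rw [h6, Nat.div_one] at h3
  have hpT : p ∣ Nat.card T := H330.Gow.dvd_card (H330.Gow.hasSplit_of_ab (H716.SplitAb.hasSplitAb_of_lie hp.out hL))
  have h7 : p ∣ p ^ (Nat.card A).factorization p :=
    dvd_pow_self p (hp.out.factorization_pos_of_dvd Nat.card_pos.ne' (hpT.trans (Subgroup.card_subgroup_dvd_card T))).ne'
  exact hcop (h7.trans (h1.trans h3))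

/-- **There are at most `ker M T` irreducible characters outside the principal block.** -/
theorem card_compl_le [IsSimpleGroup T] (hM : IsPModular p M) (hL : IsLieTypeChar p T) (hloc : LocChar p T)
    (hna : ¬ IsMulCommutative T) (hcen : centralizer (T : Set A) = ⊥) (hcop : ¬ p ∣ T.index) :
    Nat.card {χ : IrrCharacter A // χ ∉ principalBlock M A} ≤ ker M T := by
  classical
  have := Fintype.ofFinite A
  have := Fintype.ofFinite T
  have hfin : Finite (IrrCharacter A) := finite_irr
  obtain ⟨θ, hθ, hext⟩ := H761.LieExt.lie_ext hna hL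
  obtain ⟨χ₀, hχ₀, -⟩ := H504.TwoZ.exists_ext T (MulEquiv.refl T) hext
  have hres : IsIrrCharacter T (fun k : T => (χ₀ : A → ℂ) k) :=
    H504.TwoZ.isIrr_restrict_of_ext T (MulEquiv.refl T) hχ₀
  have hχ₀θ : (fun k : T => (χ₀ : A → ℂ) k) = (θ : T → ℂ) := by
    funext k
    exact hχ₀ k
  have hone : ((fun _ => 1) * (fun k : T => (χ₀ : A → ℂ) k) : T → ℂ) = fun k : T => (χ₀ : A → ℂ) k := by
    funext k; simp
  have hχc : IsClassFunction A (χ₀ : A → ℂ) := isIrr_isClassFunction χ₀.2
  have key := S0856.result T (fun _ => 1) (fun k : T => (χ₀ : A → ℂ) k) isIrr_one hres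
    (fun g n => rfl) (fun g n => hχc n g) (by rw [hone]; exact hres) χ₀ χ₀.2 (fun n => rfl)
  rw [hone] at key
  have hsurj : ∀ χ : {χ : IrrCharacter A // χ ∉ principalBlock M A}, ∃ β : IrrCharacter A,
      (β ∈ principalBlock M A ∧ ∀ s ∈ T, (β : A → ℂ) s = (β : A → ℂ) 1) ∧
      (β : A → ℂ) * (χ₀ : A → ℂ) = (χ.1 : A → ℂ) := by
    rintro ⟨χ, hχ⟩
    have h1 := dz_of_not_mem hM hL hloc hcen hcop hχ
    have h2 := over_of_dz hL hcop hθ h1
    have h3 : (χ : A → ℂ) ∈ {ψ : A → ℂ | IsIrrCharacter A ψ ∧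
        classInner (indFun T (fun k : T => (χ₀ : A → ℂ) k)) ψ ≠ 0} := by
      refine ⟨χ.2, ?_⟩
      rw [CharactersDeep.NormalInd.classInner_indFun T _ _ (isIrr_isClassFunction χ.2), hχ₀θ]
      intro h0
      apply h2
      rw [← classInner_conj_symm, h0, map_zero]
    obtain ⟨β, ⟨hβ, hβ1⟩, hβχ⟩ := key.surjOn h3
    have h4 := ker_of_over hβ hβ1
    exact ⟨⟨β, hβ⟩, ⟨mem_of_ker hM hL hloc hcen hcop h4, h4⟩, hβχ⟩
  choose f hf hf' using hsurj
  refine Nat.card_le_card_of_injective (β := {χ : IrrCharacter A // χ ∈ principalBlock M A ∧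
    ∀ s ∈ T, (χ : A → ℂ) s = (χ : A → ℂ) 1}) (fun χ => ⟨f χ, hf χ⟩) ?_
  intro χ χ' h
  have h1 : f χ = f χ' := congrArg Subtype.val h
  apply Subtype.ext
  apply Subtype.ext
  rw [← hf' χ, ← hf' χ', h1]

end Cfsg.Agent.H292.KB.Count
end
end

-- part: H292/KB/AllBut
section
set_option linter.all false
open scoped Cfsg.Agent.FastGrp

/-!
# All irreducible characters but one lie in the principal block, own characteristic (helper292, S4822, S4876)

`all_but_one` : `X` simple of Lie type of odd characteristic `p`: all irreducible characters but one (the Steinberg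
character) lie in the principal `p`-block.
-/

set_option autoImplicit false
set_option linter.unusedSectionVars false

namespace Cfsg.Agent.H292.KB

open Cfsg Subgroup
open Cfsg.Agent.BpLieP.Big (LocChar)
open Cfsg.Agent.Blocks.Basic
open Cfsg.Agent.Characters.Core

universe u

/-- outside the principal block: defect zero -/
theorem dz_of_not_mem {X : Type u} [Group X] [Finite X] {p : ℕ} [hp : Fact p.Prime] {M : Ideal AlgInt}
    (hM : IsPModular p M) (hloc : LocChar p X) {χ : IrrCharacter X} (hχ : χ ∉ principalBlock M X) :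
    p ^ (Nat.card X).factorization p ∣ charDegree (χ : X → ℂ) := by
  have : M.IsPrime := hM.2.1.isPrime
  have hB : IsPBlock M (blockOf M (χ : X → ℂ)) := isPBlock_blockOf χ
  obtain ⟨D, hD⟩ := H729.CharTwoBlock.exists_isDefectGroup hM hB
  have hDp : IsPGroup p D := H729.CharTwoBlock.isPGroup_of_isDefectGroup hD
  by_cases hD1 : D = ⊥
  · subst hD1
    exact H729.CharTwoBlock.card_dvd_of_defect_bot hM hB hD (mem_blockOf_self χ)
  · exfalso
    have h1 := hloc D hDp hD1
    have h2 := S0955.result p M hM _ hB D hD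
    have hCD : centralizer (D : Set X) ≤ D := by
      intro c hc
      have hcN : c ∈ normalizer (D : Set X) := Subgroup.centralizer_le_normalizer _ hc
      have h3 : (⟨c, hcN⟩ : normalizer (D : Set X)) ∈
          centralizer (pCore p (normalizer (D : Set X)) : Set (normalizer (D : Set X))) := by
        rw [mem_centralizer_iff]
        intro y hy
        apply Subtype.ext
        rw [mem_centralizer_iff] at hc
        refine hc (y : X) ?_
        have h4 : (y : X) ∈ (pCore p (normalizer (D : Set X))).map (normalizer (D : Set X)).subtype :=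
          ⟨y, hy, rfl⟩
        rw [h2] at h4
        exact h4
      have h5 : c ∈ (pCore p (normalizer (D : Set X))).map (normalizer (D : Set X)).subtype :=
        ⟨⟨c, hcN⟩, h1 h3, rfl⟩
      rwa [h2] at h5
    have h6 := H729.CharTwoBlock.eq_principal_of_centralizer hM hB hD (hDp.to_le hCD)
    apply hχ
    rw [← h6]
    exact mem_blockOf_self χ

/-- **All irreducible characters but one lie in the principal block.** -/
theorem all_but_one {X : Type u} [Group X] [Finite X] [IsSimpleGroup X] {p : ℕ} [hp : Fact p.Prime] (hp2 : p ≠ 2)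
    (hL : IsLieTypeChar p X) (M : Ideal AlgInt) (hM : IsPModular p M) :
    ∃ St : IrrCharacter X, ∀ χ : IrrCharacter X, χ ≠ St → χ ∈ principalBlock M X := by
  have hloc : LocChar p X := H400.LieLocal.local_char_of_lie hL (fun h => hp2 h.1)
  have hS := H716.SplitAb.hasSplitAb_of_lie hp.out hL
  have hperf := H330.Gow.perfect_of_split (H330.Gow.hasSplit_of_ab hS)
  have key : ∀ ψ : IrrCharacter X, p ^ (Nat.card X).factorization p ∣ charDegree (ψ : X → ℂ) →
      ¬ p ∣ Nat.card X / charDegree (ψ : X → ℂ) := by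
    intro ψ hψ
    obtain ⟨c, hc⟩ : charDegree (ψ : X → ℂ) ∣ Nat.card X := H674.Codegree.charDegree_dvd_card ψ.2
    have hd0 : charDegree (ψ : X → ℂ) ≠ 0 := (charDegree_pos ψ.2).ne'
    rw [hc, Nat.mul_div_cancel_left _ (Nat.pos_of_ne_zero hd0)]
    intro hpc
    have h1 : p ^ ((Nat.card X).factorization p + 1) ∣ Nat.card X := by
      rw [pow_succ]
      conv_rhs => rw [hc]
      exact mul_dvd_mul hψ hpc
    exact Nat.pow_succ_factorization_not_dvd Nat.card_pos.ne' hp.out h1
  by_cases hex : ∃ St : IrrCharacter X, St ∉ principalBlock M X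
  · obtain ⟨St, hSt⟩ := hex
    refine ⟨St, fun χ hne => ?_⟩
    by_contra hcon
    exact hne (H330.GowOne.unique_of_hasSplitAb hS hperf χ St (key χ (dz_of_not_mem hM hloc hcon))
      (key St (dz_of_not_mem hM hloc hSt)))
  · push Not at hex
    exact ⟨⟨fun _ => 1, isIrr_one⟩, fun χ _ => hex χ⟩

end Cfsg.Agent.H292.KB
end

-- part: H690/OwnD/Mem
section
set_option linter.all false

/-!
# S4884: characters of degree prime to the own characteristic are in the principal block (helper690)
-/

set_option autoImplicit false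

open Cfsg

namespace Cfsg.Agent.H690.OwnD

universe u

/-- Lie type of characteristic `r` (all families, `r = 2` and the Suzuki groups included): the irreducible characters
of degree prime to `r` are in the principal `r`-block. -/
theorem mem_own {S : Type u} [Group S] [Finite S] {r : ℕ} [Fact r.Prime] (hL : IsLieTypeChar r S)
    {M : Ideal AlgInt} (hM : IsPModular r M) {χ : IrrCharacter S} (hχ : ¬ r ∣ charDegree (χ : S → ℂ)) :
    χ ∈ principalBlock M S := by
  have hr := Fact.out (p := r.Prime)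
  by_contra hcon
  have h1 := H292.KB.dz_of_not_mem hM (H330.Gow.locChar_of_lie hL) hcon
  have hs : IsSimpleGroup S := H400.LieSimple.isSimple_of_lie hL
  have h2 : r ∣ Nat.card S := H330.Gow.dvd_card (H330.Gow.hasSplit_of_ab (H716.SplitAb.hasSplitAb_of_lie hr hL))
  have h3 : 1 ≤ (Nat.card S).factorization r := (hr.dvd_iff_one_le_factorization Nat.card_pos.ne').1 h2
  exact hχ ((dvd_pow_self r (by omega)).trans h1)

/-- outside the principal block: divisible by the full power of `r` -/
theorem dz_own {S : Type u} [Group S] [Finite S] {r : ℕ} [Fact r.Prime] (hL : IsLieTypeChar r S)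
    {M : Ideal AlgInt} (hM : IsPModular r M) {χ : IrrCharacter S} (hχ : χ ∉ principalBlock M S) :
    r ^ (Nat.card S).factorization r ∣ charDegree (χ : S → ℂ) :=
  H292.KB.dz_of_not_mem hM (H330.Gow.locChar_of_lie hL) hχ

end Cfsg.Agent.H690.OwnD
end
end
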